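import Groth.Agent.SubmEtLib.Hom

/-! Topological properties of morphisms descend along universally submersive morphisms. -/

set_option autoImplicit false
set_option backward.isDefEq.respectTransparency false

universe u
open CategoryTheory CategoryTheory.Limits AlgebraicGeometry

noncomputable section

namespace Groth.Agent.SubmEtLib

theorem preimage_image {W' W T' T : Scheme.{u}} {a : W' ⟶ W} {φ' : W' ⟶ T'} {φ : W ⟶ T} {b : T' ⟶ T}
    (h : IsPullback a φ' φ b) (U : Set W) : b ⁻¹' (φ '' U) = φ' '' (a ⁻¹' U) := by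
  refine Set.Subset.antisymm ?_ ?_
  · rintro t ⟨w, hw, hwt⟩
    obtain ⟨z, hz1, hz2⟩ := Scheme.Pullback.exists_preimage_pullback (f := φ) (g := b) w t hwt
    refine ⟨h.isoPullback.inv z, ?_, ?_⟩
    · rw [Set.mem_preimage, ← Scheme.Hom.comp_apply, h.isoPullback_inv_fst, hz1]
      exact hw
    · rw [← Scheme.Hom.comp_apply, h.isoPullback_inv_snd, hz2]
  · rintro _ ⟨w', hw', rfl⟩
    exact ⟨a w', hw', by rw [← Scheme.Hom.comp_apply, h.w, Scheme.Hom.comp_apply]⟩

theorem isOpenMap_of_isPullback {W' W T' T : Scheme.{u}} {a : W' ⟶ W} {φ' : W' ⟶ T'} {φ : W ⟶ T} {b : T' ⟶ T}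
    (h : IsPullback a φ' φ b) (hb : Topology.IsQuotientMap b.base) (hφ : IsOpenMap φ'.base) : IsOpenMap φ.base := by
  intro U hU
  rw [← hb.isOpen_preimage]
  change IsOpen (b ⁻¹' (φ '' U))
  rw [preimage_image h]
  exact hφ _ (hU.preimage a.continuous)

theorem isClosedMap_of_isPullback {W' W T' T : Scheme.{u}} {a : W' ⟶ W} {φ' : W' ⟶ T'} {φ : W ⟶ T} {b : T' ⟶ T}
    (h : IsPullback a φ' φ b) (hb : Topology.IsQuotientMap b.base) (hφ : IsClosedMap φ'.base) : IsClosedMap φ.base := by
  intro U hU
  rw [← hb.isClosed_preimage]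
  change IsClosed (b ⁻¹' (φ '' U))
  rw [preimage_image h]
  exact hφ _ (hU.preimage a.continuous)

variable {S' S X Y : Scheme.{u}} (g : S' ⟶ S) (f : X ⟶ Y) (q : Y ⟶ S)

/-- The base change of `f`. -/
abbrev bcMap : pullback (f ≫ q) g ⟶ pullback q g :=
  pullback.map (f ≫ q) g q g f (𝟙 S') (𝟙 S) (Category.comp_id _) ((Category.comp_id _).trans (Category.id_comp _).symm)

theorem isPullback_bcMap : IsPullback (pullback.fst (f ≫ q) g) (bcMap g f q) f (pullback.fst q g) := by
  refine IsPullback.of_bot ?_ (by simp [bcMap]) (IsPullback.of_hasPullback q g)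
  have : bcMap g f q ≫ pullback.snd q g = pullback.snd (f ≫ q) g := by simp [bcMap]
  rw [this]
  exact IsPullback.of_hasPullback (f ≫ q) g

/-- Base changes of `f` become base changes of the pulled back morphism. -/
theorem exists_square {W T : Scheme.{u}} (i₁ : W ⟶ X) (i₂ : T ⟶ Y) (φ : W ⟶ T) (h : IsPullback i₁ φ f i₂) :
    ∃ (W' T' : Scheme.{u}) (a : W' ⟶ W) (φ' : W' ⟶ T') (b : T' ⟶ T) (j₁ : W' ⟶ pullback (f ≫ q) g)
      (j₂ : T' ⟶ pullback q g), IsPullback a φ' φ b ∧ IsPullback j₁ φ' (bcMap g f q) j₂ ∧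
        (SGA1.UnivSubmersive g → Topology.IsQuotientMap b.base) := by
  let b := pullback.fst (i₂ ≫ q) g
  let j₂ : pullback (i₂ ≫ q) g ⟶ pullback q g := pullback.lift (b ≫ i₂) (pullback.snd (i₂ ≫ q) g)
    (by rw [Category.assoc]; exact pullback.condition)
  let a := pullback.fst φ b
  let φ' := pullback.snd φ b
  have hbig : IsPullback (a ≫ i₁) φ' f (b ≫ i₂) := (IsPullback.of_hasPullback φ b).paste_horiz h
  let j₁ : pullback φ b ⟶ pullback (f ≫ q) g := pullback.lift (a ≫ i₁) (φ' ≫ j₂ ≫ pullback.snd q g) (by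
    have e := congrArg (· ≫ q) hbig.w
    simp only [Category.assoc] at e ⊢
    rw [e, ← pullback.condition, pullback.lift_fst_assoc]
    simp only [Category.assoc])
  refine ⟨_, _, a, φ', b, j₁, j₂, IsPullback.of_hasPullback φ b, ?_, fun hg => isQuotientMap_fst hg _⟩
  refine IsPullback.of_right ?_ ?_ (isPullback_bcMap g f q)
  · simp only [j₁, j₂, pullback.lift_fst]
    exact hbig
  · refine pullback.hom_ext ?_ ?_
    · simp [j₁, j₂, bcMap]
      simpa using hbig.w
    · simp [j₁, j₂, bcMap]

variable (hg : SGA1.UnivSubmersive g)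

include hg in
theorem universallyOpen_of_bcMap (hf : UniversallyOpen (bcMap g f q)) : UniversallyOpen f := by
  refine ⟨fun W T i₁ i₂ φ h => ?_⟩
  obtain ⟨W', T', a, φ', b, j₁, j₂, h1, h2, hb⟩ := exists_square g f q i₁ i₂ φ h.flip
  exact isOpenMap_of_isPullback h1 (hb hg) (hf.out _ _ _ h2.flip)

include hg in
theorem universallyClosed_of_bcMap (hf : UniversallyClosed (bcMap g f q)) : UniversallyClosed f := by
  refine ⟨fun W T i₁ i₂ φ h => ?_⟩
  obtain ⟨W', T', a, φ', b, j₁, j₂, h1, h2, hb⟩ := exists_square g f q i₁ i₂ φ h.flip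
  exact isClosedMap_of_isPullback h1 (hb hg) (hf.out _ _ _ h2.flip)

include hg in
theorem isSeparated_of_bcMap (hf : IsSeparated (bcMap g f q)) : IsSeparated f := by
  refine ⟨IsClosedImmersion.iff_isPreimmersion.mpr ⟨inferInstance, ?_⟩⟩
  let q2 : pullback f f ⟶ S := pullback.fst f f ≫ f ≫ q
  let b := pullback.fst q2 g
  let f' := bcMap g f q
  let θ : pullback q2 g ⟶ pullback f' f' := pullback.lift
    (pullback.lift (b ≫ pullback.fst f f) (pullback.snd q2 g) (by simpa [q2, b] using pullback.condition (f := q2) (g := g)))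
    (pullback.lift (b ≫ pullback.snd f f) (pullback.snd q2 g) (by
      simp only [b, Category.assoc, ← pullback.condition_assoc (f := f) (g := f)]
      simpa [q2] using pullback.condition (f := q2) (g := g)))
    (by
      refine pullback.hom_ext ?_ ?_
      · simp [f', bcMap, pullback.condition]
      · simp [f', bcMap])
  have hcl : IsClosed (Set.range (pullback.diagonal f')) := (pullback.diagonal f').isClosedEmbedding.isClosed_range
  have key : b ⁻¹' Set.range (pullback.diagonal f) = θ ⁻¹' Set.range (pullback.diagonal f') := by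
    refine Set.Subset.antisymm ?_ ?_
    · rintro z ⟨x, hx⟩
      obtain ⟨c, -, hc⟩ := Scheme.Pullback.exists_preimage_pullback (f := pullback.diagonal f) (g := b) x z hx
      let m : pullback (pullback.diagonal f) b ⟶ pullback (f ≫ q) g :=
        pullback.lift (pullback.fst _ _) (pullback.snd _ _ ≫ pullback.snd q2 g) (by
          rw [Category.assoc, ← pullback.condition (f := q2) (g := g), ← pullback.condition_assoc]
          simp [q2])
      refine ⟨m c, ?_⟩
      rw [← hc, ← Scheme.Hom.comp_apply, ← Scheme.Hom.comp_apply]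
      refine congrArg (fun k : pullback (pullback.diagonal f) b ⟶ pullback f' f' => k c) ?_
      have e1 : pullback.fst (pullback.diagonal f) b = pullback.snd (pullback.diagonal f) b ≫ b ≫ pullback.fst f f := by
        have := congrArg (· ≫ pullback.fst f f) (pullback.condition (f := pullback.diagonal f) (g := b))
        simpa using this
      have e2 : pullback.fst (pullback.diagonal f) b = pullback.snd (pullback.diagonal f) b ≫ b ≫ pullback.snd f f := by
        have := congrArg (· ≫ pullback.snd f f) (pullback.condition (f := pullback.diagonal f) (g := b))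
        simpa using this
      refine pullback.hom_ext (pullback.hom_ext ?_ ?_) (pullback.hom_ext ?_ ?_)
      · simp [m, θ]; exact e1
      · simp [m, θ]
      · simp [m, θ]; exact e2
      · simp [m, θ]
    · rintro z ⟨x, hx⟩
      obtain ⟨c, -, hc⟩ := Scheme.Pullback.exists_preimage_pullback (f := pullback.diagonal f') (g := θ) x z hx
      refine ⟨pullback.fst (f ≫ q) g (pullback.fst (pullback.diagonal f') θ c), ?_⟩
      rw [← hc, ← Scheme.Hom.comp_apply, ← Scheme.Hom.comp_apply, ← Scheme.Hom.comp_apply]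
      refine congrArg (fun k : pullback (pullback.diagonal f') θ ⟶ pullback f f => k c) ?_
      have e1 := congrArg (· ≫ pullback.fst f' f' ≫ pullback.fst (f ≫ q) g) (pullback.condition (f := pullback.diagonal f') (g := θ))
      have e2 := congrArg (· ≫ pullback.snd f' f' ≫ pullback.fst (f ≫ q) g) (pullback.condition (f := pullback.diagonal f') (g := θ))
      refine pullback.hom_ext ?_ ?_
      · simpa [θ] using e1
      · simpa [θ] using e2
  rw [← (isQuotientMap_fst hg q2).isClosed_preimage]
  change IsClosed (b ⁻¹' Set.range (pullback.diagonal f))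
  rw [key]
  exact hcl.preimage θ.continuous

end Groth.Agent.SubmEtLib
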