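import Groth.Agent.SubmEtLib.Hom
import Mathlib.AlgebraicGeometry.Morphisms.QuasiFinite
import Groth.Agent.ASp.EtLocal

/-! Universally submersive morphisms with geometrically connected fibres. -/

set_option autoImplicit false
set_option backward.isDefEq.respectTransparency false

universe u
open CategoryTheory CategoryTheory.Limits AlgebraicGeometry

noncomputable section

namespace Groth.Agent.SubmEtLib

variable {S' S : Scheme.{u}} (g : S' ⟶ S)

theorem connectedSpace_of_univSubmersive (hg : SGA1.UnivSubmersive g)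
    (hconn : ∀ (K : Type u) [Field K] [IsAlgClosed K] (ξ : Spec (CommRingCat.of K) ⟶ S), ConnectedSpace ↑(pullback g ξ))
    [ConnectedSpace S] : ConnectedSpace S' := by
  have hq : Topology.IsQuotientMap g.base := MorphismProperty.universally_le _ g hg
  haveI : Nonempty S' := ⟨(hq.surjective (Classical.arbitrary S)).choose⟩
  rw [connectedSpace_iff_clopen]
  refine ⟨inferInstance, fun U hU => ?_⟩
  have hsat : ∀ a b : S', g a = g b → a ∈ U → b ∈ U := by
    intro a b hab ha
    obtain ⟨K, _, _, ω, hω⟩ := QuotLib.exists_geom_point (g a)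
    haveI := hconn K ω
    have hr : ∀ c : S', g c = g a → ∃ z : ↥(pullback g ω), pullback.fst g ω z = c := by
      intro c hc
      obtain ⟨z, hz, -⟩ := Scheme.Pullback.exists_preimage_pullback (f := g) (g := ω) c (IsLocalRing.closedPoint K)
        (hc.trans hω.symm)
      exact ⟨z, hz⟩
    obtain ⟨za, hza⟩ := hr a rfl
    obtain ⟨zb, hzb⟩ := hr b hab.symm
    have hc : IsClopen ((pullback.fst g ω) ⁻¹' U) :=
      ⟨hU.1.preimage (pullback.fst g ω).continuous, hU.2.preimage (pullback.fst g ω).continuous⟩
    rcases isClopen_iff.mp hc with h | h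
    · exact absurd (show za ∈ (pullback.fst g ω) ⁻¹' U by rw [Set.mem_preimage, hza]; exact ha) (by rw [h]; exact id)
    · have : zb ∈ (pullback.fst g ω) ⁻¹' U := h ▸ Set.mem_univ _
      rwa [Set.mem_preimage, hzb] at this
  have hpre : g ⁻¹' (g '' U) = U := by
    refine Set.Subset.antisymm ?_ (Set.subset_preimage_image _ _)
    rintro b ⟨a, ha, hab⟩
    exact hsat a b hab ha
  have hcl : IsClopen (g '' U) := by
    refine ⟨?_, ?_⟩
    · rw [← hq.isClosed_preimage]
      change IsClosed (g ⁻¹' (g '' U))
      rw [hpre]; exact hU.1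
    · rw [← hq.isOpen_preimage]
      change IsOpen (g ⁻¹' (g '' U))
      rw [hpre]; exact hU.2
  rcases isClopen_iff.mp hcl with h | h
  · left; rw [← hpre, h]; rfl
  · right; rw [← hpre, h]; rfl

/-- Morphisms into an étale scheme do not vary along geometrically connected fibres. -/
theorem comp_eq_of_connected
    (hconn : ∀ (K : Type u) [Field K] [IsAlgClosed K] (ξ : Spec (CommRingCat.of K) ⟶ S), ConnectedSpace ↑(pullback g ξ))
    {X Y : Scheme.{u}} (p : X ⟶ S) (q : Y ⟶ S) [Etale q]
    (v : pullback p g ⟶ Y) (hv : v ≫ q = pullback.snd p g ≫ g)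
    {T : Scheme.{u}} (a b : T ⟶ pullback p g) (hab : a ≫ pullback.fst p g = b ≫ pullback.fst p g) :
    a ≫ v = b ≫ v := by
  have hq : (a ≫ v) ≫ q = (b ≫ v) ≫ q := by
    simp only [Category.assoc, hv]
    rw [← pullback.condition, reassoc_of% hab]
  let d : T ⟶ pullback q q := pullback.lift (a ≫ v) (b ≫ v) hq
  haveI : IsOpenImmersion (pullback.diagonal q) := inferInstance
  suffices hr : Set.range d ⊆ Set.range (pullback.diagonal q) by
    let e := IsOpenImmersion.lift (pullback.diagonal q) d hr
    have hed : e ≫ pullback.diagonal q = d := IsOpenImmersion.lift_fac _ _ _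
    have h1 : e = a ≫ v := by simpa [d] using congrArg (· ≫ pullback.fst q q) hed
    have h2 : e = b ≫ v := by simpa [d] using congrArg (· ≫ pullback.snd q q) hed
    rw [← h1, h2]
  rintro _ ⟨t, rfl⟩
  obtain ⟨K, _, _, ω, hω⟩ := QuotLib.exists_geom_point t
  -- it suffices to compare the two geometric points
  suffices hK : ω ≫ a ≫ v = ω ≫ b ≫ v by
    refine ⟨(ω ≫ a ≫ v) (IsLocalRing.closedPoint K), ?_⟩
    rw [← hω, ← Scheme.Hom.comp_apply, ← Scheme.Hom.comp_apply]
    refine congrArg (fun k : Spec (CommRingCat.of K) ⟶ pullback q q => k (IsLocalRing.closedPoint K)) ?_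
    refine pullback.hom_ext ?_ ?_ <;> simp [d, hK]
  let x := ω ≫ a ≫ pullback.fst p g
  let ξ := x ≫ p
  haveI := hconn K ξ
  let F : pullback g ξ ⟶ pullback p g := pullback.lift (pullback.snd g ξ ≫ x) (pullback.fst g ξ)
    (by rw [Category.assoc]; exact pullback.condition.symm)
  let G : pullback g ξ ⟶ pullback q ξ := pullback.lift (F ≫ v) (pullback.snd g ξ)
    (by rw [Category.assoc, hv]; simp [F, pullback.condition])
  haveI : Etale (pullback.snd q ξ) := MorphismProperty.pullback_snd _ _ inferInstance
  haveI : LocallyOfFiniteType (pullback.snd q ξ) := inferInstance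
  haveI : LocallyQuasiFinite (pullback.snd q ξ) :=
    ASp.IsEtLocal.etale_le (P := @LocallyQuasiFinite) _ ‹Etale (pullback.snd q ξ)›
  haveI : DiscreteTopology ↥(pullback q ξ) := by
    have h := (pullback.snd q ξ).isDiscrete_preimage_singleton (IsLocalRing.closedPoint K)
    rw [show (pullback.snd q ξ).base ⁻¹' {IsLocalRing.closedPoint K} = Set.univ from
      Set.eq_univ_of_forall fun z => Subsingleton.elim (α := PrimeSpectrum K) _ _] at h
    exact isDiscrete_univ_iff.mp h
  have hca : (ω ≫ a ≫ pullback.snd p g) ≫ g = 𝟙 _ ≫ ξ := by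
    simp only [ξ, x, Category.id_comp, Category.assoc, pullback.condition]
  have hcb : (ω ≫ b ≫ pullback.snd p g) ≫ g = 𝟙 _ ≫ ξ := by
    simp only [ξ, x, Category.id_comp, Category.assoc, ← pullback.condition, reassoc_of% hab]
  let sa := pullback.lift (f := g) (g := ξ) _ _ hca
  let sb := pullback.lift (f := g) (g := ξ) _ _ hcb
  have hFa : sa ≫ F = ω ≫ a := by
    refine pullback.hom_ext ?_ ?_
    · simp [sa, F, x]
      exact Category.id_comp _
    · simp [sa, F, x]
  have hFb : sb ≫ F = ω ≫ b := by
    refine pullback.hom_ext ?_ ?_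
    · simp [sb, F, x, hab]
      exact Category.id_comp _
    · simp [sb, F, x, hab]
  have key : sa ≫ G = sb ≫ G := by
    refine ext_of_apply_closedPoint_eq (pullback.snd q ξ) (by simp [sa, G]) (by simp [sb, G]) ?_
    rw [Scheme.Hom.comp_apply, Scheme.Hom.comp_apply]
    exact PreconnectedSpace.constant inferInstance G.continuous
  have := congrArg (· ≫ pullback.fst q ξ) key
  simp only [G, Category.assoc, pullback.lift_fst] at this
  rw [← Category.assoc, ← Category.assoc, ← hFa, ← hFb, Category.assoc, Category.assoc]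
  exact this

end Groth.Agent.SubmEtLib
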