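import Groth.Prelude.Def_SGA1
import Groth.Agent.QuotLib.Free
import Mathlib.AlgebraicGeometry.AlgClosed.Basic
import Mathlib.AlgebraicGeometry.Morphisms.FlatMono
import Mathlib.AlgebraicGeometry.PullbackCarrier

/-! Universally submersive morphisms are morphisms of descent for étale schemes. -/

set_option autoImplicit false
set_option backward.isDefEq.respectTransparency false

universe u
open CategoryTheory CategoryTheory.Limits AlgebraicGeometry

noncomputable section

namespace Groth.Agent.SubmEtLib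

theorem surjective_of_univSubmersive {S S' : Scheme.{u}} {g : S' ⟶ S} (hg : SGA1.UnivSubmersive g) : Surjective g :=
  ⟨(MorphismProperty.universally_le _ g hg).surjective⟩

theorem isQuotientMap_fst {S S' P : Scheme.{u}} {g : S' ⟶ S} (hg : SGA1.UnivSubmersive g) (π : P ⟶ S) :
    Topology.IsQuotientMap (pullback.fst π g).base :=
  hg _ _ _ (IsPullback.of_hasPullback π g)

theorem exists_lift_geometric {U T : Scheme.{u}} (u : U ⟶ T) [Surjective u] [LocallyOfFiniteType u] {Ω : Type u}
    [Field Ω] [IsAlgClosed Ω] (σ : Spec (CommRingCat.of Ω) ⟶ T) : ∃ τ : Spec (CommRingCat.of Ω) ⟶ U, τ ≫ u = σ := by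
  let p := pullback.snd u σ
  haveI : LocallyOfFiniteType p := MorphismProperty.pullback_snd _ _ inferInstance
  haveI : Surjective p := MorphismProperty.pullback_snd _ _ inferInstance
  haveI : JacobsonSpace ↥(pullback u σ) := LocallyOfFiniteType.jacobsonSpace p
  obtain ⟨z₀, -⟩ := p.surjective (IsLocalRing.closedPoint Ω)
  obtain ⟨z, -, hz⟩ := nonempty_inter_closedPoints (Z := (Set.univ : Set ↥(pullback u σ))) ⟨z₀, trivial⟩
    isClosed_univ.isLocallyClosed
  obtain ⟨⟨q, hq⟩, -⟩ := (pointEquivClosedPoint p).surjective ⟨z, hz⟩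
  exact ⟨q ≫ pullback.fst u σ, by rw [Category.assoc, pullback.condition, reassoc_of% hq]⟩

/-- Two geometric points with the same image in the base have a common lift along a surjective morphism. -/
theorem exists_cover_point {T X : Scheme.{u}} (h : T ⟶ X) [Surjective h] {K : Type u} [Field K]
    (z : Spec (CommRingCat.of K) ⟶ X) :
    ∃ (L : Type u) (_ : Field L) (e : Spec (CommRingCat.of L) ⟶ Spec (CommRingCat.of K))
      (t : Spec (CommRingCat.of L) ⟶ T), Epi e ∧ t ≫ h = e ≫ z := by
  haveI : Surjective (pullback.snd h z) := MorphismProperty.pullback_snd _ _ inferInstance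
  obtain ⟨w, -⟩ := (pullback.snd h z).surjective (IsLocalRing.closedPoint K)
  obtain ⟨L, _, _, ω, -⟩ := QuotLib.exists_geom_point w
  refine ⟨L, inferInstance, ω ≫ pullback.snd h z, ω ≫ pullback.fst h z, ?_, ?_⟩
  · let f := Spec.preimage (ω ≫ pullback.snd h z)
    rw [← Spec.map_preimage (ω ≫ pullback.snd h z)]
    haveI : Flat (Spec.map f) := by
      refine (HasRingHomProperty.Spec_iff (P := @Flat)).mpr ?_
      letI : Algebra K L := f.hom.toAlgebra
      exact RingHom.flat_algebraMap_iff.mpr (inferInstance : Module.Flat K L)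
    haveI : Surjective (Spec.map f) := ⟨fun q => ⟨IsLocalRing.closedPoint L, Subsingleton.elim (α := PrimeSpectrum K) _ _⟩⟩
    haveI : QuasiCompact (Spec.map f) := inferInstance
    infer_instance
  · simp only [Category.assoc, pullback.condition]

theorem exists_unique_desc {S S' X Y : Scheme.{u}} (g : S' ⟶ S) (hg : SGA1.UnivSubmersive g)
    (p : X ⟶ S) (q : Y ⟶ S) [Etale q]
    (v : pullback p g ⟶ Y) (hv : v ≫ q = pullback.snd p g ≫ g)
    (hcoc : ∀ {T : Scheme.{u}} (a b : T ⟶ pullback p g), a ≫ pullback.fst p g = b ≫ pullback.fst p g → a ≫ v = b ≫ v) :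
    ∃! u : X ⟶ Y, u ≫ q = p ∧ v = pullback.fst p g ≫ u := by
  haveI hsg : Surjective g := surjective_of_univSubmersive hg
  haveI : Surjective (pullback.fst p g) := MorphismProperty.pullback_fst _ _ hsg
  -- uniqueness
  have huniq : ∀ u u' : X ⟶ Y, u ≫ q = p → u' ≫ q = p → pullback.fst p g ≫ u = pullback.fst p g ≫ u' → u = u' := by
    intro u u' hu hu' he
    let d : X ⟶ pullback q q := pullback.lift u u' (hu.trans hu'.symm)
    haveI : IsOpenImmersion (pullback.diagonal q) := inferInstance
    have hr : Set.range d ⊆ Set.range (pullback.diagonal q) := by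
      rintro _ ⟨x, rfl⟩
      obtain ⟨x', rfl⟩ := (pullback.fst p g).surjective x
      refine ⟨(pullback.fst p g ≫ u) x', ?_⟩
      have hd : pullback.fst p g ≫ d = (pullback.fst p g ≫ u) ≫ pullback.diagonal q := by
        refine pullback.hom_ext ?_ ?_ <;> simp [d, he]
      rw [← Scheme.Hom.comp_apply, ← Scheme.Hom.comp_apply, hd]
    let e := IsOpenImmersion.lift (pullback.diagonal q) d hr
    have hed : e ≫ pullback.diagonal q = d := IsOpenImmersion.lift_fac _ _ _
    have h1 : e = u := by simpa [d] using congrArg (· ≫ pullback.fst q q) hed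
    have h2 : e = u' := by simpa [d] using congrArg (· ≫ pullback.snd q q) hed
    rw [← h1, h2]
  let P := pullback p q
  let pr : P ⟶ S := pullback.fst p q ≫ p
  let P' := pullback pr g
  let h : P' ⟶ P := pullback.fst pr g
  let π : P' ⟶ pullback p g := pullback.lift (h ≫ pullback.fst p q) (pullback.snd pr g)
    (by rw [Category.assoc]; exact pullback.condition)
  let σ : pullback p g ⟶ P' := pullback.lift (pullback.lift (pullback.fst p g) v
    (pullback.condition.trans hv.symm)) (pullback.snd p g)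
    (by simp [pr, pullback.condition, hv])
  have hσπ : σ ≫ π = 𝟙 _ := by
    refine pullback.hom_ext ?_ ?_ <;> simp [σ, π, h]
  haveI : Etale π := by
    have hp : IsPullback (h ≫ pullback.snd p q) π q (pullback.snd p g ≫ g) := by
      have h1 : IsPullback h π (pullback.fst p q) (pullback.fst p g) := by
        refine IsPullback.of_bot ?_ (by simp [π, h]) (IsPullback.of_hasPullback p g)
        have h2 : IsPullback h (π ≫ pullback.snd p g) pr g := by
          rw [show π ≫ pullback.snd p g = pullback.snd pr g from pullback.lift_snd _ _ _]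
          exact IsPullback.of_hasPullback pr g
        exact h2
      rw [← pullback.condition (f := p) (g := g)]
      exact h1.paste_horiz (IsPullback.of_hasPullback p q).flip
    exact MorphismProperty.of_isPullback (P := @Etale) hp inferInstance
  haveI : Etale σ := by
    haveI : Etale (σ ≫ π) := by rw [hσπ]; infer_instance
    exact Etale.of_comp σ π
  haveI : Mono σ := mono_of_mono_fac hσπ
  haveI : IsOpenImmersion σ := IsOpenImmersion.of_flat_of_mono σ
  let W : P'.Opens := σ.opensRange
  have key : ∀ {T : Scheme.{u}} (t : T ⟶ pullback p g) (c : T ⟶ P'), c ≫ h = t ≫ σ ≫ h →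
      c = (c ≫ π) ≫ σ := by
    intro T t c hc
    have hv' : t ≫ v = (c ≫ π) ≫ v := by
      refine hcoc _ _ ?_
      have := congrArg (· ≫ pullback.fst p q) hc
      simp [σ, π, h] at this ⊢
      exact this.symm
    refine pullback.hom_ext (pullback.hom_ext ?_ ?_) ?_
    · simp [σ, π, h]
    · have := congrArg (· ≫ pullback.snd p q) hc
      simp [σ, h] at this
      simp [σ] at hv' ⊢
      rw [← hv']
      exact this
    · simp [σ, π]
  have hsat : ∀ a b : P', h a = h b → a ∈ W → b ∈ W := by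
    intro a b hab ⟨x', hx'⟩
    obtain ⟨c, hc1, hc2⟩ := Scheme.Pullback.exists_preimage_pullback (f := σ ≫ h) (g := h) x' b
      (by rw [Scheme.Hom.comp_apply, hx', hab])
    have hk := key (pullback.fst (σ ≫ h) h) (pullback.snd (σ ≫ h) h) pullback.condition.symm
    refine ⟨π b, ?_⟩
    conv_rhs => rw [← hc2, hk]
    rw [← hc2, Scheme.Hom.comp_apply, Scheme.Hom.comp_apply]
  have hWo : IsOpen (h '' (W : Set P')) := by
    have hq := isQuotientMap_fst hg pr
    rw [← hq.isOpen_preimage]
    have : h ⁻¹' (h '' (W : Set P')) = (W : Set P') := by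
      refine Set.Subset.antisymm ?_ (Set.subset_preimage_image _ _)
      rintro b ⟨a, ha, hab⟩
      exact hsat a b hab ha
    change IsOpen (h ⁻¹' (h '' (W : Set P')))
    rw [this]
    exact W.isOpen
  let Γ : P.Opens := ⟨h '' (W : Set P'), hWo⟩
  have hΓ : ∀ {T : Scheme.{u}} (c : T ⟶ P'), Set.range (c ≫ h) ⊆ (Γ : Set P) → c = (c ≫ π) ≫ σ := by
    intro T c hc
    have hr : Set.range c ⊆ Set.range σ := by
      rintro _ ⟨t, rfl⟩
      obtain ⟨a, ha, hab⟩ := hc ⟨t, rfl⟩
      exact hsat a _ (by rw [hab, Scheme.Hom.comp_apply]) ha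
    let l := IsOpenImmersion.lift σ c hr
    have hl : l ≫ σ = c := IsOpenImmersion.lift_fac _ _ _
    rw [← hl, Category.assoc, Category.assoc, reassoc_of% hσπ]
  let m : (Γ : Scheme.{u}) ⟶ X := Γ.ι ≫ pullback.fst p q
  haveI : Etale (pullback.fst p q) := MorphismProperty.pullback_fst _ _ inferInstance
  haveI : Etale m := inferInstance
  haveI hsm : Surjective m := ⟨fun x => by
    obtain ⟨x', rfl⟩ := (pullback.fst p g).surjective x
    have hmem : (σ ≫ h) x' ∈ Γ := ⟨σ x', ⟨x', rfl⟩, (Scheme.Hom.comp_apply _ _ _).symm⟩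
    refine ⟨⟨(σ ≫ h) x', hmem⟩, ?_⟩
    change pullback.fst p q ((σ ≫ h) x') = _
    rw [← Scheme.Hom.comp_apply]
    congr 1
    simp [σ, h]⟩
  haveI : IsIso m := by
    refine QuotLib.isIso_of_etale_of_geom_bijective m (fun K _ _ z => exists_lift_geometric m z) (fun K _ _ a b hab => ?_)
    obtain ⟨L, _, e, t, he, ht⟩ := exists_cover_point g (a ≫ Γ.ι ≫ pr)
    have hab' : a ≫ Γ.ι ≫ pullback.fst p q = b ≫ Γ.ι ≫ pullback.fst p q := hab
    have hw : ∀ c : Spec (CommRingCat.of K) ⟶ Γ, c ≫ Γ.ι ≫ pullback.fst p q = a ≫ Γ.ι ≫ pullback.fst p q →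
        (e ≫ c ≫ Γ.ι) ≫ pr = t ≫ g := fun c hc => by
      rw [ht]
      simp only [pr, Category.assoc, reassoc_of% hc]
    let la := pullback.lift (f := pr) (g := g) (e ≫ a ≫ Γ.ι) t (hw a rfl)
    let lb := pullback.lift (f := pr) (g := g) (e ≫ b ≫ Γ.ι) t (hw b hab'.symm)
    have hm : ∀ (c : Spec (CommRingCat.of K) ⟶ Γ) (l : Spec (CommRingCat.of L) ⟶ P'), l ≫ h = e ≫ c ≫ Γ.ι →
        Set.range (l ≫ h) ⊆ (Γ : Set P) := fun c l hl => by
      rw [hl]
      rintro _ ⟨s, rfl⟩
      rw [Scheme.Hom.comp_apply, Scheme.Hom.comp_apply]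
      exact ((c (e s)) : (Γ : Scheme.{u})).2
    have h1 := hΓ la (hm a la (pullback.lift_fst _ _ _))
    have h2 := hΓ lb (hm b lb (pullback.lift_fst _ _ _))
    have hπ : la ≫ π = lb ≫ π := by
      refine pullback.hom_ext ?_ ?_ <;> simp [la, lb, π, h]
      exact congrArg (e ≫ ·) hab'
    have hl : la = lb := by rw [h1, h2, hπ]
    have h3 := congrArg (· ≫ h) hl
    simp only [la, lb, h, pullback.lift_fst] at h3
    rw [← cancel_mono Γ.ι, ← cancel_epi e]
    exact h3
  let u : X ⟶ Y := inv m ≫ Γ.ι ≫ pullback.snd p q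
  have hu : u ≫ q = p := by
    simp only [u, Category.assoc, ← pullback.condition]
    rw [← Category.assoc Γ.ι, IsIso.inv_hom_id_assoc]
  refine ⟨u, ⟨hu, ?_⟩, fun u' hu' => huniq u' u hu'.1 hu ?_⟩
  · have hr : Set.range (σ ≫ h) ⊆ Set.range Γ.ι := by
      rw [Scheme.Opens.range_ι]
      rintro _ ⟨s, rfl⟩
      exact ⟨σ s, ⟨s, rfl⟩, (Scheme.Hom.comp_apply _ _ _).symm⟩
    let l := IsOpenImmersion.lift Γ.ι (σ ≫ h) hr
    have hl : l ≫ Γ.ι = σ ≫ h := IsOpenImmersion.lift_fac _ _ _
    have hlm : l ≫ m = pullback.fst p g := by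
      simp only [m, reassoc_of% hl]
      simp [σ, h]
    rw [← hlm, Category.assoc]
    simp only [u, IsIso.hom_inv_id_assoc, reassoc_of% hl]
    simp [σ, h]
  · rw [← hu'.2]
    have hr : Set.range (σ ≫ h) ⊆ Set.range Γ.ι := by
      rw [Scheme.Opens.range_ι]
      rintro _ ⟨s, rfl⟩
      exact ⟨σ s, ⟨s, rfl⟩, (Scheme.Hom.comp_apply _ _ _).symm⟩
    let l := IsOpenImmersion.lift Γ.ι (σ ≫ h) hr
    have hl : l ≫ Γ.ι = σ ≫ h := IsOpenImmersion.lift_fac _ _ _
    have hlm : l ≫ m = pullback.fst p g := by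
      simp only [m, reassoc_of% hl]
      simp [σ, h]
    rw [← hlm, Category.assoc]
    simp only [u, IsIso.hom_inv_id_assoc, reassoc_of% hl]
    simp [σ, h]

end Groth.Agent.SubmEtLib
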