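import Groth.Agent.SubmEtLib.Glue
import Groth.Prelude.Def_DescFam

/-! Effectivity for étale descent data along universally submersive morphisms is local on the base. -/

set_option autoImplicit false
set_option linter.style.haveILetI false
set_option backward.isDefEq.respectTransparency false
set_option backward.isDefEq.respectTransparency.types false

universe u
open CategoryTheory CategoryTheory.Limits AlgebraicGeometry

noncomputable section

namespace Groth.Agent.SubmEtLib

open Groth.Agent.SchDesc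
open _root_.Desc (SchDD SchDDFam toDD toDDFam pullDDFam)

variable {X S : Scheme.{u}} {p : X ⟶ S}

theorem move_congr' {D : SchDD p} {T : Scheme.{u}} {v v' : T ⟶ D.obj.left} (ev : v = v') {x x' : T ⟶ X}
    (ex : x = x') (h : v ≫ D.obj.hom ≫ p = x ≫ p) (h' : v' ≫ D.obj.hom ≫ p = x' ≫ p) :
    move D v x h = move D v' x' h' := by
  subst ev ex; rfl

/-- Effectivity over an open gives an étale quotient of the part over it. -/
theorem quot_of_pull_effective (D : SchDDFam (fun _ : PUnit.{1} => p)) (W : S.Opens) (U : Over (W : Scheme.{u}))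
    [Etale U.hom]
    (e : (toDDFam (fun _ : PUnit.{1} => pullback.snd p W.ι)).obj U ≅
      (pullDDFam (f := fun _ : PUnit.{1} => p) (f' := fun _ : PUnit.{1} => pullback.snd p W.ι)
        (α := id) (p := W.ι) (p' := fun _ => pullback.fst p W.ι) (fun _ => pullback.condition)).obj D) :
    ∃ Q : Quot ((_root_.Desc.SchDDFam.toSchDD p).obj D) (overOp ((_root_.Desc.SchDDFam.toSchDD p).obj D) W),
      Etale Q.str := by
  let D₀ := (_root_.Desc.SchDDFam.toSchDD p).obj D
  let U' : Over S := Over.mk (U.hom ≫ W.ι)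
  let P := pullback (pullback.snd p W.ι) U.hom
  let m : pullback p (U.hom ≫ W.ι) ⟶ P := pullback.lift
    (pullback.lift (pullback.fst p (U.hom ≫ W.ι)) (pullback.snd p (U.hom ≫ W.ι) ≫ U.hom)
      (by rw [Category.assoc]; exact pullback.condition))
    (pullback.snd p (U.hom ≫ W.ι)) (pullback.lift_snd _ _ _)
  let m' : P ⟶ pullback p (U.hom ≫ W.ι) := pullback.lift (pullback.fst _ _ ≫ pullback.fst p W.ι) (pullback.snd _ _)
    (by
      rw [Category.assoc, pullback.condition (f := p) (g := W.ι), ← Category.assoc, pullback.condition (f := pullback.snd p W.ι), Category.assoc])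
  haveI : IsIso m := ⟨m', by
    refine pullback.hom_ext ?_ ?_ <;> simp [m, m'], by
    refine pullback.hom_ext (pullback.hom_ext ?_ ?_) ?_ <;> simp [m, m', pullback.condition]⟩
  let el : P ⟶ pullback (D.obj PUnit.unit).hom (pullback.fst p W.ι) := (e.hom.hom PUnit.unit).left
  let el' : pullback (D.obj PUnit.unit).hom (pullback.fst p W.ι) ⟶ P := (e.inv.hom PUnit.unit).left
  haveI : IsIso el := ⟨el', congrArg (fun k => (k.hom PUnit.unit).left) e.hom_inv_id,
    congrArg (fun k => (k.hom PUnit.unit).left) e.inv_hom_id⟩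
  have hel : el ≫ pullback.snd (D.obj PUnit.unit).hom (pullback.fst p W.ι) = pullback.fst _ _ :=
    Over.w (e.hom.hom PUnit.unit)
  let jl : pullback p (U.hom ≫ W.ι) ⟶ D₀.obj.left := m ≫ el ≫ pullback.fst (D.obj PUnit.unit).hom (pullback.fst p W.ι)
  have hjl : jl ≫ D₀.obj.hom = pullback.fst p (U.hom ≫ W.ι) := by
    show jl ≫ (D.obj PUnit.unit).hom = _
    simp only [jl, Category.assoc, pullback.condition, reassoc_of% hel]
    simp [m]
  let j : (toDD p).obj U' ⟶ D₀ := ⟨Over.homMk jl hjl, fun T x₀ x₁ h v w hw => by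
    change T ⟶ X at x₀ x₁
    change w.1 = v.1 ≫ jl at hw
    show _ = (((toDD p).obj U').φ x₀ x₁ h v).1 ≫ jl
    let v₁ := ((toDD p).obj U').φ x₀ x₁ h v
    let y₀ : T ⟶ pullback p W.ι := (v.1 ≫ m) ≫ pullback.fst _ _
    let y₁ : T ⟶ pullback p W.ι := (v₁.1 ≫ m) ≫ pullback.fst _ _
    have hv₁ : v₁.1 ≫ pullback.snd p (U.hom ≫ W.ι) = v.1 ≫ pullback.snd p (U.hom ≫ W.ι) := pullback.lift_snd _ _ _
    have hy : y₀ ≫ pullback.snd p W.ι = y₁ ≫ pullback.snd p W.ι := by
      have h1 : v₁.1 ≫ m ≫ pullback.fst _ _ ≫ pullback.snd p W.ι = v₁.1 ≫ pullback.snd p (U.hom ≫ W.ι) ≫ U.hom := by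
        simp [m]
      have h2 : v.1 ≫ m ≫ pullback.fst _ _ ≫ pullback.snd p W.ι = v.1 ≫ pullback.snd p (U.hom ≫ W.ι) ≫ U.hom := by
        simp [m]
      simp only [y₀, y₁, Category.assoc, h1, h2, reassoc_of% hv₁]
    let vl : _root_.Desc.Lifts (((toDDFam (fun _ : PUnit.{1} => pullback.snd p W.ι)).obj U).obj PUnit.unit) y₀ :=
      ⟨v.1 ≫ m, rfl⟩
    let wl := (e.hom).push vl
    have key := e.hom.comm (i := PUnit.unit) (j := PUnit.unit) y₀ y₁ hy vl wl rfl
    have hφ : (((toDDFam (fun _ : PUnit.{1} => pullback.snd p W.ι)).obj U).φ (i := PUnit.unit) (j := PUnit.unit) y₀ y₁ hy vl).1 = v₁.1 ≫ m := by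
      refine pullback.hom_ext ?_ ?_
      · exact (pullback.lift_fst _ _ _)
      · refine (pullback.lift_snd _ _ _).trans ?_
        simp only [vl, m, Category.assoc, pullback.lift_snd]
        exact hv₁.symm
    rw [hφ] at key
    have key' := congrArg (· ≫ pullback.fst (D.obj PUnit.unit).hom (pullback.fst p W.ι)) key
    refine Eq.trans ?_ (key'.trans (by simp [jl, el, v₁]))
    refine Eq.trans ?_ (pullback.lift_fst _ _ _).symm
    rw [φ_eq_move D₀ x₀ x₁ h w]
    refine Eq.trans ?_ (φ_eq_move D₀ _ _ _ _).symm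
    refine move_congr' ?_ ?_ _ _
    · rw [hw]
      simp [wl, vl, _root_.Desc.SchDDFam.Hom.push, _root_.Desc.liftsPullbackEquiv, jl, el]
    · have h2 : v₁.1 ≫ pullback.fst p (U.hom ≫ W.ι) = x₁ := v₁.2
      simp [y₁, m, h2]⟩
  haveI : IsOpenImmersion j.hom.left := by
    show IsOpenImmersion (m ≫ el ≫ pullback.fst _ _)
    infer_instance
  obtain ⟨Q, hQ, hQ'⟩ := quot_of_openImmersion_str j U' (Iso.refl _)
  have hr : j.hom.left.opensRange = overOp D₀ W := by
    refine TopologicalSpace.Opens.ext ?_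
    show Set.range (m ≫ el ≫ pullback.fst (D.obj PUnit.unit).hom (pullback.fst p W.ι)) =
      ((D.obj PUnit.unit).hom ≫ p) ⁻¹' (W : Set S)
    rw [← Category.assoc]
    have h1 : Set.range ((m ≫ el) ≫ pullback.fst (D.obj PUnit.unit).hom (pullback.fst p W.ι)) =
        Set.range (pullback.fst (D.obj PUnit.unit).hom (pullback.fst p W.ι)) := by
      refine Set.Subset.antisymm (fun _ ⟨z, hz⟩ => ⟨(m ≫ el) z, hz⟩) fun _ ⟨z, hz⟩ => ?_
      obtain ⟨z', rfl⟩ := (m ≫ el).surjective z
      exact ⟨z', hz⟩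
    rw [h1, Scheme.Pullback.range_fst, Scheme.Pullback.range_fst, Scheme.Opens.range_ι]
    ext v
    simp
  haveI : Etale U'.hom := (inferInstance : Etale (U.hom ≫ W.ι))
  haveI : Etale Q.str := by rw [hQ']; infer_instance
  revert Q
  rw [hr]
  intro Q _ _ hQet
  exact ⟨Q, hQet⟩

/-- Restriction to an open commutes with canonical descent data. -/
def pullCanIso (U : Over S) (W : S.Opens) :
    (toDDFam (fun _ : PUnit.{1} => pullback.snd p W.ι)).obj ((Over.pullback W.ι).obj U) ≅
      (pullDDFam (f := fun _ : PUnit.{1} => p) (f' := fun _ : PUnit.{1} => pullback.snd p W.ι)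
        (α := id) (p := W.ι) (p' := fun _ => pullback.fst p W.ι) (fun _ => pullback.condition)).obj
        ((toDDFam (fun _ : PUnit.{1} => p)).obj U) where
  hom := ⟨fun _ => Over.homMk
      (show pullback (pullback.snd p W.ι) (pullback.snd U.hom W.ι) ⟶ pullback (pullback.fst p U.hom) (pullback.fst p W.ι) from
        pullback.lift (pullback.lift (pullback.fst _ _ ≫ pullback.fst p W.ι) (pullback.snd _ _ ≫ pullback.fst U.hom W.ι)
          (by simp [pullback.condition, pullback.condition_assoc])) (pullback.fst _ _) (pullback.lift_fst _ _ _))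
      (pullback.lift_snd _ _ _),
    fun T i j x₀ x₁ h v w hw => by
      refine pullback.hom_ext (pullback.hom_ext ?_ ?_) ?_ <;>
        simp [_root_.Desc.canonicalDDFam, toDDFam, pullDDFam, _root_.Desc.pullDDFamObj,
          _root_.Desc.liftsPullbackEquiv, hw]⟩
  inv := ⟨fun _ => Over.homMk
      (show pullback (pullback.fst p U.hom) (pullback.fst p W.ι) ⟶ pullback (pullback.snd p W.ι) (pullback.snd U.hom W.ι) from
        pullback.lift (pullback.snd _ _) (pullback.lift (pullback.fst _ _ ≫ pullback.snd p U.hom) (pullback.snd _ _ ≫ pullback.snd p W.ι)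
          (by simp only [Category.assoc, ← pullback.condition (f := p) (g := U.hom), ← pullback.condition (f := p) (g := W.ι), pullback.condition_assoc]))
          (pullback.lift_snd _ _ _).symm)
      (pullback.lift_fst _ _ _),
    fun T i j x₀ x₁ h v w hw => by
      refine pullback.hom_ext ?_ (pullback.hom_ext ?_ ?_)
      · simp [_root_.Desc.canonicalDDFam, toDDFam, pullDDFam, _root_.Desc.pullDDFamObj, _root_.Desc.liftsPullbackEquiv]
      · simp [_root_.Desc.canonicalDDFam, toDDFam, pullDDFam, _root_.Desc.pullDDFamObj,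
          _root_.Desc.liftsPullbackEquiv, hw]
      · have h0 : v.1 ≫ pullback.snd _ _ = x₀ := v.2
        simp [_root_.Desc.canonicalDDFam, toDDFam, pullDDFam, _root_.Desc.pullDDFamObj,
          _root_.Desc.liftsPullbackEquiv, hw]
        exact (Category.assoc _ _ _).symm.trans ((congrArg (· ≫ _) h0).trans h)⟩
  hom_inv_id := by
    ext i
    refine pullback.hom_ext ?_ (pullback.hom_ext ?_ ?_) <;>
      simp [_root_.Desc.canonicalDDFam, toDDFam, pullback.condition]
  inv_hom_id := by
    ext i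
    refine pullback.hom_ext (pullback.hom_ext ?_ ?_) ?_ <;>
      simp [_root_.Desc.canonicalDDFam, toDDFam, pullDDFam, _root_.Desc.pullDDFamObj, pullback.condition]

theorem isEffective_iff_openCover {S S' : Scheme.{u}} (g : S' ⟶ S) (hg : SGA1.UnivSubmersive g)
    (D : SchDDFam (fun _ : PUnit.{1} => g)) {ι : Type*} (V : ι → S.Opens) (hV : ⨆ i, V i = ⊤) :
    (∃ U : Over S, Etale U.hom ∧ Nonempty ((toDDFam (fun _ : PUnit.{1} => g)).obj U ≅ D)) ↔
      ∀ i : ι, (∃ U : Over (V i : Scheme.{u}), Etale U.hom ∧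
        Nonempty ((toDDFam (fun _ : PUnit.{1} => pullback.snd g (V i).ι)).obj U ≅
          (pullDDFam (f := fun _ : PUnit.{1} => g) (f' := fun _ : PUnit.{1} => pullback.snd g (V i).ι)
        (α := id) (p := (V i).ι) (p' := fun _ => pullback.fst g (V i).ι) (fun _ => pullback.condition)).obj D)) := by
  constructor
  · rintro ⟨U, hU, ⟨e⟩⟩ i
    haveI := hU
    refine ⟨(Over.pullback (V i).ι).obj U, MorphismProperty.pullback_snd _ _ hU, ⟨pullCanIso U (V i) ≪≫ Functor.mapIso _ e⟩⟩
  · intro h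
    let D₀ := (_root_.Desc.SchDDFam.toSchDD g).obj D
    obtain ⟨U, hU, ⟨e⟩⟩ := effective_of_openCover (D := D₀) hg (fun s => by
      obtain ⟨i, hi⟩ := TopologicalSpace.Opens.mem_iSup.mp (hV ▸ (show s ∈ (⊤ : S.Opens) from trivial) : s ∈ ⨆ i, V i)
      obtain ⟨U, hU, ⟨e⟩⟩ := h i
      haveI := hU
      exact ⟨V i, hi, quot_of_pull_effective D (V i) U e⟩)
    exact ⟨U, hU, ⟨(_root_.Desc.SchDDFam.ofSchDD g).mapIso e⟩⟩

end Groth.Agent.SubmEtLib
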