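import Groth.Agent.SubmEtLib.Hom
import Groth.Agent.SubmEtLib.Effective
import Groth.Agent.SchDesc.Glue

/-! Gluing étale quotients of a descent datum along a universally submersive morphism. -/

set_option autoImplicit false
set_option linter.style.haveILetI false
set_option backward.isDefEq.respectTransparency false

universe u
open CategoryTheory CategoryTheory.Limits AlgebraicGeometry

noncomputable section

namespace Groth.Agent.SubmEtLib

open Groth.Agent.SchDesc

variable {X S : Scheme.{u}} {p : X ⟶ S} {D : _root_.Desc.SchDD p}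

variable (D) in
/-- The part of the descent datum overOp an open of the base. -/
abbrev overOp (W : S.Opens) : D.obj.left.Opens := (D.obj.hom ≫ p) ⁻¹ᵁ W

theorem overOp_mono {W W' : S.Opens} (h : W ≤ W') : overOp D W ≤ overOp D W' := fun _ hv => h hv

theorem stable_overOp (W : S.Opens) : Stable D (overOp D W) := fun t ht => by
  show (D.obj.hom ≫ p) (act D t) ∈ W
  rw [← Scheme.Hom.comp_apply, ← Category.assoc, act_hom, ← pullback.condition, Scheme.Hom.comp_apply]
  exact ht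

theorem existsUnique_map (hp : SGA1.UnivSubmersive p) {O O' : D.obj.left.Opens} (Q : Quot D O) (Q' : Quot D O')
    [Etale Q'.str] (h : O ≤ O') :
    ∃! m : Q.U ⟶ Q'.U, Q.π ≫ m = D.obj.left.homOfLE h ≫ Q'.π ∧ m ≫ Q'.str = Q.str := by
  let e := Q.isPullback.flip.isoPullback
  let v : pullback Q.str p ⟶ Q'.U := e.inv ≫ D.obj.left.homOfLE h ≫ Q'.π
  have hv : v ≫ Q'.str = pullback.snd Q.str p ≫ p := by
    simp only [v, Category.assoc, ← Q'.isPullback.w]
    rw [← Category.assoc (D.obj.left.homOfLE h), Scheme.homOfLE_ι,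
      ← reassoc_of% Q.isPullback.flip.isoPullback_inv_snd]
  obtain ⟨m, ⟨hm, hm'⟩, hu⟩ := exists_unique_desc p hp Q.str Q'.str v hv (fun {T} a b hab => by
    have h1 : (a ≫ e.inv) ≫ Q.π = (b ≫ e.inv) ≫ Q.π := by
      simp only [e, Category.assoc, Q.isPullback.flip.isoPullback_inv_fst, hab]
    have h2 := Q.move_eq h1
    have h3 := Q'.inv (a ≫ e.inv ≫ D.obj.left.homOfLE h) (b ≫ e.inv ≫ D.obj.left.homOfLE h)
      ((b ≫ e.inv) ≫ O.ι ≫ D.obj.hom) (by
        simpa only [Category.assoc, Scheme.homOfLE_ι] using Q.compat h1) (by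
        exact (move_congr D (by simp only [Category.assoc, Scheme.homOfLE_ι]) _).trans
          (h2.trans (by simp only [Category.assoc, Scheme.homOfLE_ι])))
    simpa only [v, Category.assoc] using h3)
  have he : e.hom ≫ pullback.fst Q.str p = Q.π := Q.isPullback.flip.isoPullback_hom_fst
  refine ⟨m, ⟨?_, hm⟩, fun m' hm'' => hu m' ⟨hm''.2, ?_⟩⟩
  · rw [← he, Category.assoc, ← hm']
    exact e.hom_inv_id_assoc _
  · rw [← cancel_epi e.hom, ← Category.assoc e.hom (pullback.fst Q.str p), he, hm''.1]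
    exact e.hom_inv_id_assoc _

/-- The comparison map of étale quotients. -/
def qmap (hp : SGA1.UnivSubmersive p) {O O' : D.obj.left.Opens} (Q : Quot D O) (Q' : Quot D O')
    [Etale Q'.str] (h : O ≤ O') : Q.U ⟶ Q'.U :=
  (existsUnique_map hp Q Q' h).choose

section
variable (hp : SGA1.UnivSubmersive p) {O O' O'' : D.obj.left.Opens}

theorem π_qmap (Q : Quot D O) (Q' : Quot D O') [Etale Q'.str] (h : O ≤ O') :
    Q.π ≫ qmap hp Q Q' h = D.obj.left.homOfLE h ≫ Q'.π :=
  (existsUnique_map hp Q Q' h).choose_spec.1.1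

theorem qmap_str (Q : Quot D O) (Q' : Quot D O') [Etale Q'.str] (h : O ≤ O') :
    qmap hp Q Q' h ≫ Q'.str = Q.str :=
  (existsUnique_map hp Q Q' h).choose_spec.1.2

theorem qmap_eq (Q : Quot D O) (Q' : Quot D O') [Etale Q'.str] (h : O ≤ O') (m : Q.U ⟶ Q'.U)
    (h1 : Q.π ≫ m = D.obj.left.homOfLE h ≫ Q'.π) (h2 : m ≫ Q'.str = Q.str) : qmap hp Q Q' h = m :=
  ((existsUnique_map hp Q Q' h).choose_spec.2 m ⟨h1, h2⟩).symm

theorem qmap_self (Q : Quot D O) [Etale Q.str] : qmap hp Q Q le_rfl = 𝟙 _ :=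
  qmap_eq hp Q Q le_rfl _ (by rw [Scheme.homOfLE_rfl, Category.id_comp, Category.comp_id]) (Category.id_comp _)

theorem qmap_qmap (Q : Quot D O) (Q' : Quot D O') (Q'' : Quot D O'') [Etale Q'.str] [Etale Q''.str]
    (h : O ≤ O') (h' : O' ≤ O'') : qmap hp Q Q' h ≫ qmap hp Q' Q'' h' = qmap hp Q Q'' (h.trans h') :=
  (qmap_eq hp Q Q'' _ _
    (by rw [← Category.assoc, π_qmap, Category.assoc, π_qmap, Scheme.homOfLE_homOfLE_assoc])
    (by rw [Category.assoc, qmap_str, qmap_str])).symm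

theorem qmap_apply (Q : Quot D O) (Q' : Quot D O') [Etale Q'.str] (h : O ≤ O') (w : ↥(O : Scheme.{u})) :
    qmap hp Q Q' h (Q.π w) = Q'.π (D.obj.left.homOfLE h w) := by
  rw [← Scheme.Hom.comp_apply, π_qmap, Scheme.Hom.comp_apply]

end

theorem restrict_over {W W' : S.Opens} (Q' : Quot D (overOp D W')) (h : W ≤ W') :
    ∃ Q₀ : Quot D (overOp D W), ∃ i : Q₀.U ⟶ Q'.U, IsOpenImmersion i ∧
      Q₀.π ≫ i = D.obj.left.homOfLE (overOp_mono h) ≫ Q'.π ∧ i ≫ Q'.str = Q₀.str ∧
      Set.range i = Q'.str ⁻¹' (W : Set S) := by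
  let U₀ : Q'.U.Opens := Q'.str ⁻¹ᵁ W
  let incl := D.obj.left.homOfLE (overOp_mono (D := D) h)
  have hincl : incl ≫ (overOp D W').ι = (overOp D W).ι := Scheme.homOfLE_ι _ _
  have hstr : ∀ w : ↥(overOp D W' : Scheme.{u}), Q'.str (Q'.π w) = (D.obj.hom ≫ p) ((overOp D W').ι w) := fun w => by
    rw [← Scheme.Hom.comp_apply, ← Q'.isPullback.w, ← Scheme.Hom.comp_apply]
    simp only [Category.assoc]
  let π₀ : (overOp D W : Scheme.{u}) ⟶ U₀ := IsOpenImmersion.lift U₀.ι (incl ≫ Q'.π) (by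
    rintro _ ⟨z, rfl⟩
    rw [Scheme.Opens.range_ι, Scheme.Hom.comp_apply]
    show Q'.str (Q'.π (incl z)) ∈ W
    rw [hstr, ← Scheme.Hom.comp_apply incl, hincl]
    exact z.2)
  have hπ₀ : π₀ ≫ U₀.ι = incl ≫ Q'.π := IsOpenImmersion.lift_fac _ _ _
  have hsq : IsPullback π₀ incl U₀.ι Q'.π := by
    refine IsOpenImmersion.isPullback π₀ incl U₀.ι Q'.π hπ₀.symm ?_
    refine TopologicalSpace.Opens.ext (Set.ext fun v => ⟨fun hv => ?_, fun hv => ?_⟩)
    · change Q'.π v ∈ Set.range U₀.ι at hv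
      rw [Scheme.Opens.range_ι] at hv
      change Q'.str (Q'.π v) ∈ W at hv
      rw [hstr] at hv
      refine ⟨⟨(overOp D W').ι v, hv⟩, ?_⟩
      apply (overOp D W').ι.isOpenEmbedding.injective
      rw [← Scheme.Hom.comp_apply, hincl]
      rfl
    · obtain ⟨z, rfl⟩ := hv
      change Q'.π (incl z) ∈ Set.range U₀.ι
      exact ⟨π₀ z, by rw [← Scheme.Hom.comp_apply, hπ₀, Scheme.Hom.comp_apply]⟩
  refine ⟨⟨U₀, U₀.ι ≫ Q'.str, π₀, ?_, stable_overOp W, fun t t' x hx e => ?_⟩, U₀.ι, inferInstance, hπ₀, rfl,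
    Scheme.Opens.range_ι _⟩
  · have := hsq.flip.paste_horiz Q'.isPullback
    rwa [reassoc_of% hincl] at this
  · rw [← cancel_mono U₀.ι, Category.assoc, Category.assoc, hπ₀, ← Category.assoc, ← Category.assoc]
    refine Q'.inv (t ≫ incl) (t' ≫ incl) x (by rw [Category.assoc t incl, hincl]; exact hx) ?_
    exact (move_congr D (by rw [Category.assoc, hincl]) _).trans (e.trans (by rw [Category.assoc, hincl]))

section
variable (hp : SGA1.UnivSubmersive p) {W W' : S.Opens}

theorem qmap_spec (Q : Quot D (overOp D W)) (Q' : Quot D (overOp D W')) [Etale Q.str] [Etale Q'.str] (h : W ≤ W') :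
    IsOpenImmersion (qmap hp Q Q' (overOp_mono h)) ∧
      Set.range (qmap hp Q Q' (overOp_mono h)) = Q'.str ⁻¹' (W : Set S) := by
  obtain ⟨Q₀, i, hi, hi₁, hi₂, hi₃⟩ := restrict_over Q' h
  haveI : Etale Q₀.str := by rw [← hi₂]; infer_instance
  haveI : IsIso (qmap hp Q Q₀ le_rfl) :=
    ⟨qmap hp Q₀ Q le_rfl, by rw [qmap_qmap, qmap_self], by rw [qmap_qmap, qmap_self]⟩
  have e : qmap hp Q Q' (overOp_mono h) = qmap hp Q Q₀ le_rfl ≫ i :=
    qmap_eq hp Q Q' _ _ (by rw [← Category.assoc, π_qmap, Scheme.homOfLE_rfl, Category.id_comp, hi₁])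
      (by rw [Category.assoc, hi₂, qmap_str])
  rw [e]
  refine ⟨inferInstance, ?_⟩
  rw [← hi₃]
  refine Set.Subset.antisymm (fun _ ⟨z, hz⟩ => ⟨qmap hp Q Q₀ le_rfl z, hz⟩) fun _ ⟨z, hz⟩ => ?_
  obtain ⟨z', rfl⟩ := (qmap hp Q Q₀ le_rfl).surjective z
  exact ⟨z', hz⟩

end

/-- An open of the base together with an étale quotient. -/
structure EtPiece (D : _root_.Desc.SchDD p) : Type u where
  W : S.Opens
  good : ∃ Q : Quot D (overOp D W), Etale Q.str

instance : Preorder (EtPiece D) := Preorder.lift EtPiece.W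

/-- A chosen étale quotient. -/
def EtPiece.quot (α : EtPiece D) : Quot D (overOp D α.W) := α.good.choose

instance (α : EtPiece D) : Etale α.quot.str := α.good.choose_spec

variable (D) in
/-- The diagram of étale quotients. -/
def etPieceFunctor (hp : SGA1.UnivSubmersive p) : EtPiece D ⥤ Scheme.{u} where
  obj α := α.quot.U
  map {α β} h := qmap hp α.quot β.quot (overOp_mono (leOfHom h))
  map_id α := qmap_self hp α.quot
  map_comp {α β γ} f g := (qmap_qmap hp α.quot β.quot γ.quot _ _).symm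

instance (hp : SGA1.UnivSubmersive p) {α β : EtPiece D} (f : α ⟶ β) :
    IsOpenImmersion ((etPieceFunctor D hp).map f) :=
  (qmap_spec hp α.quot β.quot (leOfHom f)).1

instance (hp : SGA1.UnivSubmersive p) : (etPieceFunctor D hp ⋙ Scheme.forget).IsLocallyDirected := ⟨by
  intro j k l fj fk (x : ↥j.quot.U) (y : ↥k.quot.U) hxy
  change qmap hp j.quot l.quot (overOp_mono (leOfHom fj)) x = qmap hp k.quot l.quot (overOp_mono (leOfHom fk)) y at hxy
  obtain ⟨Q, i, hi, -, hi₂, -⟩ := restrict_over j.quot (inf_le_left : j.W ⊓ k.W ≤ j.W)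
  let m : EtPiece D := ⟨j.W ⊓ k.W, Q, by rw [← hi₂]; infer_instance⟩
  have hmj : m ≤ j := (inf_le_left : j.W ⊓ k.W ≤ j.W)
  have hmk : m ≤ k := (inf_le_right : j.W ⊓ k.W ≤ k.W)
  have hx : x ∈ Set.range (qmap hp m.quot j.quot (overOp_mono hmj)) := by
    rw [(qmap_spec hp m.quot j.quot hmj).2]
    have hy : l.quot.str (qmap hp j.quot l.quot (overOp_mono (leOfHom fj)) x) ∈ k.W := by
      rw [hxy, ← Scheme.Hom.comp_apply, qmap_str]
      haveI := surjective_of_univSubmersive hp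
      haveI : Surjective k.quot.π := MorphismProperty.of_isPullback (P := @Surjective) k.quot.isPullback inferInstance
      obtain ⟨w, rfl⟩ := k.quot.π.surjective y
      rw [← Scheme.Hom.comp_apply, ← k.quot.isPullback.w, Category.assoc, Scheme.Hom.comp_apply]
      exact w.2
    rw [← Scheme.Hom.comp_apply, qmap_str] at hy
    refine ⟨?_, hy⟩
    haveI := surjective_of_univSubmersive hp
    haveI : Surjective j.quot.π := MorphismProperty.of_isPullback (P := @Surjective) j.quot.isPullback inferInstance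
    obtain ⟨w, rfl⟩ := j.quot.π.surjective x
    rw [← Scheme.Hom.comp_apply, ← j.quot.isPullback.w, Category.assoc, Scheme.Hom.comp_apply]
    exact w.2
  obtain ⟨z, hz⟩ := hx
  refine ⟨m, homOfLE hmj, homOfLE hmk, z, hz, ?_⟩
  show qmap hp m.quot k.quot (overOp_mono hmk) z = y
  haveI := (qmap_spec hp k.quot l.quot (leOfHom fk)).1
  apply (qmap hp k.quot l.quot (overOp_mono (leOfHom fk))).isOpenEmbedding.injective
  rw [← hxy, ← hz, ← Scheme.Hom.comp_apply, ← Scheme.Hom.comp_apply, qmap_qmap, qmap_qmap]⟩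

/-- Étale quotients overOp the members of an open cover glue to an étale scheme inducing the descent datum. -/
theorem effective_of_openCover (hp : SGA1.UnivSubmersive p)
    (h : ∀ s : S, ∃ W : S.Opens, s ∈ W ∧ ∃ Q : Quot D (overOp D W), Etale Q.str) :
    ∃ U : Over S, Etale U.hom ∧ Nonempty ((_root_.Desc.toDD p).obj U ≅ D) := by
  haveI := surjective_of_univSubmersive hp
  let F := etPieceFunctor D hp
  let U := colimit F
  let ι : ∀ α : EtPiece D, α.quot.U ⟶ U := fun α => colimit.ι F α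
  have hι : ∀ {α β : EtPiece D} (h : α ≤ β), qmap hp α.quot β.quot (overOp_mono h) ≫ ι β = ι α :=
    fun {α β} h => colimit.w F (homOfLE h)
  let str : U ⟶ S := colimit.desc F
    { pt := S
      ι := { app := fun α => α.quot.str
             naturality := fun α β f => (qmap_str hp α.quot β.quot _).trans (Category.comp_id _).symm } }
  haveI hιo : ∀ α, IsOpenImmersion (ι α) := fun α => inferInstanceAs (IsOpenImmersion (colimit.ι F α))
  have hstr : ∀ α, ι α ≫ str = α.quot.str := fun α => colimit.ι_desc _ α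
  haveI : Etale str := by
    rw [IsZariskiLocalAtSource.iff_of_openCover (P := @Etale) (Scheme.IsLocallyDirected.openCover F)]
    intro α
    show Etale (ι α ≫ str)
    rw [hstr]
    infer_instance
  let 𝒲 : D.obj.left.OpenCover := D.obj.left.openCoverOfIsOpenCover (fun α : EtPiece D => overOp D α.W)
    (top_le_iff.mp fun v _ => by
      obtain ⟨W, hv, hW⟩ := h ((D.obj.hom ≫ p) v)
      exact TopologicalSpace.Opens.mem_iSup.mpr ⟨⟨W, hW⟩, hv⟩)
  have hinter : ∀ (α β : EtPiece D) {T : Scheme.{u}} (a : T ⟶ (overOp D α.W : Scheme.{u}))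
      (b : T ⟶ (overOp D β.W : Scheme.{u})), a ≫ (overOp D α.W).ι = b ≫ (overOp D β.W).ι →
      a ≫ α.quot.π ≫ ι α = b ≫ β.quot.π ≫ ι β := by
    intro α β T a b hab
    obtain ⟨Q, i, hi, -, hi₂, -⟩ := restrict_over α.quot (inf_le_left : α.W ⊓ β.W ≤ α.W)
    let γ : EtPiece D := ⟨α.W ⊓ β.W, Q, by rw [← hi₂]; infer_instance⟩
    let c : T ⟶ (overOp D γ.W : Scheme.{u}) := IsOpenImmersion.lift (overOp D γ.W).ι (a ≫ (overOp D α.W).ι) (by
      rintro _ ⟨z, rfl⟩
      rw [Scheme.Opens.range_ι]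
      refine ⟨?_, ?_⟩
      · rw [Scheme.Hom.comp_apply]; exact (a z).2
      · rw [hab, Scheme.Hom.comp_apply]; exact (b z).2)
    have hc : c ≫ (overOp D γ.W).ι = a ≫ (overOp D α.W).ι := IsOpenImmersion.lift_fac _ _ _
    have hγα : γ ≤ α := (inf_le_left : α.W ⊓ β.W ≤ α.W)
    have hγβ : γ ≤ β := (inf_le_right : α.W ⊓ β.W ≤ β.W)
    have e1 : c ≫ D.obj.left.homOfLE (overOp_mono (D := D) (show γ.W ≤ α.W from hγα)) = a := by
      rw [← cancel_mono (overOp D α.W).ι, Category.assoc, Scheme.homOfLE_ι, hc]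
    have e2 : c ≫ D.obj.left.homOfLE (overOp_mono (D := D) (show γ.W ≤ β.W from hγβ)) = b := by
      rw [← cancel_mono (overOp D β.W).ι, Category.assoc, Scheme.homOfLE_ι, hc, hab]
    rw [← e1, ← e2, Category.assoc, Category.assoc,
      ← reassoc_of% (π_qmap hp γ.quot α.quot (overOp_mono (show γ.W ≤ α.W from hγα))),
      ← reassoc_of% (π_qmap hp γ.quot β.quot (overOp_mono (show γ.W ≤ β.W from hγβ))), hι hγα, hι hγβ]
  let π₀ : D.obj.left ⟶ U := 𝒲.glueMorphisms (fun α => α.quot.π ≫ ι α)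
    (fun α β => hinter α β _ _ pullback.condition)
  have hπ₀ : ∀ α : EtPiece D, (overOp D α.W).ι ≫ π₀ = α.quot.π ≫ ι α := fun α => Scheme.Cover.ι_glueMorphisms 𝒲 _ _ α
  have hw : D.obj.hom ≫ p = π₀ ≫ str := 𝒲.hom_ext _ _ fun (α : EtPiece D) => by
    show (overOp D α.W).ι ≫ D.obj.hom ≫ p = (overOp D α.W).ι ≫ π₀ ≫ str
    rw [reassoc_of% (hπ₀ α), hstr, ← α.quot.isPullback.w, Category.assoc]
  have hsat : ∀ (α : EtPiece D) (v : D.obj.left), π₀ v ∈ Set.range (ι α) → v ∈ overOp D α.W := by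
    intro α v ⟨x, hx⟩
    show (D.obj.hom ≫ p) v ∈ α.W
    rw [hw, Scheme.Hom.comp_apply, ← hx, ← Scheme.Hom.comp_apply, hstr]
    haveI : Surjective α.quot.π := MorphismProperty.of_isPullback (P := @Surjective) α.quot.isPullback inferInstance
    obtain ⟨w, rfl⟩ := α.quot.π.surjective x
    rw [← Scheme.Hom.comp_apply, ← α.quot.isPullback.w, Category.assoc, Scheme.Hom.comp_apply]
    exact w.2
  have hpb : IsPullback π₀ D.obj.hom str p := by
    refine Scheme.isPullback_of_openCover _ _ _ _ (Scheme.IsLocallyDirected.openCover F)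
      fun (α : EtPiece D) => ?_
    have hsq : IsPullback (overOp D α.W).ι α.quot.π π₀ (ι α) := by
      refine IsPullback.flip (IsOpenImmersion.isPullback α.quot.π (overOp D α.W).ι (ι α) π₀ (hπ₀ α) ?_)
      refine TopologicalSpace.Opens.ext (Set.ext fun v => ⟨fun hv => ?_, fun hv => ?_⟩)
      · exact ⟨⟨v, hsat α v hv⟩, rfl⟩
      · obtain ⟨w, rfl⟩ := hv
        refine ⟨α.quot.π w, ?_⟩
        rw [← Scheme.Hom.comp_apply, ← hπ₀, Scheme.Hom.comp_apply]
    have h2 := α.quot.isPullback.flip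
    rw [← hstr α] at h2
    exact h2.of_iso hsq.isoPullback (Iso.refl _) (Iso.refl _) (Iso.refl _)
      (by simp only [Iso.refl_hom, Category.comp_id]; exact hsq.isoPullback_hom_snd.symm)
      (by simp only [Iso.refl_hom, Category.comp_id]
          exact (congrArg (· ≫ D.obj.hom) hsq.isoPullback_hom_fst.symm).trans (Category.assoc _ _ _))
      (by simp only [Iso.refl_hom, Category.comp_id, Category.id_comp]; rfl) (by simp)
  let Q : Quot D ⊤ :=
    { U := U
      str := str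
      π := (⊤ : D.obj.left.Opens).ι ≫ π₀
      isPullback := hpb.flip.of_iso (Scheme.topIso D.obj.left).symm (Iso.refl _) (Iso.refl _) (Iso.refl _)
        (by simp [← Scheme.topIso_hom]) (by simp [← Scheme.topIso_hom]) (by simp) (by simp)
      stable := stable_top
      inv := fun {T} t t' x hx e => by
        rw [← Category.assoc, ← Category.assoc]
        let 𝒯 : T.OpenCover := T.openCoverOfIsOpenCover
          (fun α : EtPiece D => (t ≫ (⊤ : D.obj.left.Opens).ι) ⁻¹ᵁ overOp D α.W)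
          (top_le_iff.mp fun z _ => by
            obtain ⟨W, hz, hW⟩ := h ((D.obj.hom ≫ p) ((t ≫ (⊤ : D.obj.left.Opens).ι) z))
            exact TopologicalSpace.Opens.mem_iSup.mpr ⟨⟨W, hW⟩, hz⟩)
        refine 𝒯.hom_ext _ _ fun (α : EtPiece D) => ?_
        let O := (t ≫ (⊤ : D.obj.left.Opens).ι) ⁻¹ᵁ overOp D α.W
        show O.ι ≫ (t ≫ (⊤ : D.obj.left.Opens).ι) ≫ π₀ = O.ι ≫ (t' ≫ (⊤ : D.obj.left.Opens).ι) ≫ π₀
        let a : (O : Scheme.{u}) ⟶ (overOp D α.W : Scheme.{u}) := (t ≫ (⊤ : D.obj.left.Opens).ι) ∣_ overOp D α.W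
        have ha : a ≫ (overOp D α.W).ι = O.ι ≫ t ≫ (⊤ : D.obj.left.Opens).ι := morphismRestrict_ι _ _
        have hx' : (a ≫ (overOp D α.W).ι) ≫ D.obj.hom ≫ p = (O.ι ≫ x) ≫ p := by
          rw [ha]; simp only [Category.assoc] at hx ⊢; rw [hx]
        obtain ⟨b, hb⟩ := α.quot.stable.exists_lift a (O.ι ≫ x) hx'
        have hb' : b ≫ (overOp D α.W).ι = O.ι ≫ t' ≫ (⊤ : D.obj.left.Opens).ι := by
          rw [hb, ← e, move_comp]
          exact move_congr D ha _
        rw [← Category.assoc, ← Category.assoc O.ι (t' ≫ _), ← ha, ← hb', Category.assoc, Category.assoc,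
          hπ₀, ← Category.assoc, ← Category.assoc b, α.quot.inv a b _ hx' hb.symm] }
  obtain ⟨V, rfl, hV⟩ := quot_effective Q
  exact ⟨Over.mk Q.str, (inferInstance : Etale str), hV⟩

end Groth.Agent.SubmEtLib
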